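import Mathlib
import Cfsg.Agent.Lib.JR.Z
import Cfsg.Agent.S4593

/-! # S3206, part Aut: `2`-automorphisms fixing an abelian Sylow `2`-subgroup are inner. -/

set_option autoImplicit false

namespace Cfsg.Agent.Lib.JR.Aut

open Cfsg Subgroup

universe u

/-- From `S4593` (abelian Sylow `2`, trivial centre, `O(G) = 1`). -/
theorem aut_inner {G : Type u} [Group G] [Finite G] [IsSimpleGroup G] (hG : ¬ IsMulCommutative G) (S : Sylow 2 G)
    (h2 : 2 ∣ Nat.card S) (hab : ∀ x ∈ (S : Subgroup G), ∀ y ∈ (S : Subgroup G), x * y = y * x)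
    (φ : G ≃* G) (k : ℕ) (hφ : φ ^ (2 ^ k) = 1) (hS : ∀ s ∈ (S : Subgroup G), φ s = s) :
    ∃ g : G, ∀ x : G, φ x = g * x * g⁻¹ := by
  classical
  have hZ : center G = ⊥ := by
    rcases IsSimpleGroup.eq_bot_or_eq_top_of_normal (center G) inferInstance with h | h
    · exact h
    · exfalso
      apply hG
      refine ⟨⟨fun a b => ?_⟩⟩
      have ha : a ∈ center G := by rw [h]; trivial
      exact (Subgroup.mem_center_iff.mp ha b).symm
  have hcore : pPrimeCore 2 G = ⊥ := by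
    unfold pPrimeCore
    rw [sSup_eq_bot]
    rintro N ⟨hN, hc⟩
    rcases hN.eq_bot_or_eq_top with h | h
    · exact h
    · exfalso
      rw [h, Subgroup.card_top] at hc
      have h1 : 2 ∣ Nat.card G := h2.trans (Subgroup.card_subgroup_dvd_card (S : Subgroup G))
      have := Nat.dvd_gcd h1 (dvd_refl 2)
      rw [Nat.Coprime.gcd_eq_one hc] at this
      omega
  have hab' : IsMulCommutative (S : Subgroup G) := ⟨⟨fun a b => Subtype.ext (hab _ a.2 _ b.2)⟩⟩
  have hord : ∃ j : ℕ, orderOf (φ : MulAut G) = 2 ^ j := by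
    have h1 : orderOf (φ : MulAut G) ∣ 2 ^ k := orderOf_dvd_of_pow_eq_one hφ
    obtain ⟨j, _, hj⟩ := (Nat.dvd_prime_pow Nat.prime_two).1 h1
    exact ⟨j, hj⟩
  exact Cfsg.Agent.S4593.result hZ hcore S hab' φ hord hS

end Cfsg.Agent.Lib.JR.Aut
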