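import Mathlib
import Cfsg.Agent.Lib.JR.Z
import Cfsg.Agent.Lib.JT.Small
import Cfsg.Agent.Lib.EPPO7.PSL7
import Cfsg.Agent.S0276

/-! # S3206, part Str: the structure of the Sylow `2`-subgroup. -/

set_option autoImplicit false
set_option linter.style.haveILetI false

namespace Cfsg.Agent.Lib.JR.Str

open Cfsg Subgroup

universe u v

variable {G : Type u} [Group G] [Finite G] {F : Type v} [Field F] [Fintype F]

/-- [T1] `q ≡ ±1 mod 8` is impossible: copy `JT.Small.mod8_false`: `exists_pair` gives `a, w ∈ SL₂`; the images in `G` (via `SL₂ → PSL₂ ≃ N ≤ E ≤ G`) generate a `2`-group (order divides `8`, `w a w⁻¹ = a⁻¹`), so lie in an abelian Sylow: `a² ↦ 1`, i.e. `a * a ∈ center`, contradiction. -/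
theorem q_mod8 (hab : ∀ S : Sylow 2 G, IsMulCommutative ↥(S : Subgroup G)) (E : Subgroup G) (N : Subgroup ↥E)
    (hN : Nonempty (↥N ≃* Matrix.ProjectiveSpecialLinearGroup (Fin 2) F)) (hFo : Odd (Fintype.card F)) :
    Fintype.card F % 8 = 3 ∨ Fintype.card F % 8 = 5 := by
  classical
  by_contra hc
  have h : Fintype.card F % 8 = 1 ∨ Fintype.card F % 8 = 7 := by
    obtain ⟨k, hk⟩ := hFo
    omega
  obtain ⟨e⟩ := hN
  obtain ⟨a, w, ha4, hw2, hwa, hnc⟩ := Cfsg.Agent.Lib.JT.Small.exists_pair h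
  let π : Matrix.SpecialLinearGroup (Fin 2) F →* Matrix.ProjectiveSpecialLinearGroup (Fin 2) F :=
    QuotientGroup.mk' _
  let φ : Matrix.SpecialLinearGroup (Fin 2) F →* G :=
    E.subtype.comp (N.subtype.comp (e.symm.toMonoidHom.comp π))
  have hneg : (-1 : Matrix.SpecialLinearGroup (Fin 2) F) ∈ Subgroup.center (Matrix.SpecialLinearGroup (Fin 2) F) := by
    rw [Subgroup.mem_center_iff]
    intro g
    ext i j
    simp
  have hφneg : φ (-1) = 1 := by
    have : π (-1) = 1 := (QuotientGroup.eq_one_iff _).mpr hneg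
    change (((e.symm (π (-1)) : N) : E) : G) = 1
    rw [this, map_one]
    rfl
  have hφinj : ∀ g, φ g = 1 → g ∈ Subgroup.center (Matrix.SpecialLinearGroup (Fin 2) F) := by
    intro g hg
    have h1 : (e.symm (π g) : N) = 1 := Subtype.ext (Subtype.ext hg)
    have h3 : π g = 1 := by
      have := congrArg e h1
      simpa using this
    exact (QuotientGroup.eq_one_iff _).mp h3
  set x := φ a with hx
  set y := φ w with hy
  have hx4 : x ^ 4 = 1 := by rw [hx, ← map_pow, ha4, hφneg]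
  have hy2 : y ^ 2 = 1 := by rw [hy, ← map_pow, pow_two, hw2, hφneg]
  have hyx : y * x * y⁻¹ = x⁻¹ := by
    rw [hx, hy, ← map_inv, ← map_inv, ← map_mul, ← map_mul, hwa]
  have hxx : x * x ≠ 1 := by
    intro h1
    apply hnc
    apply hφinj
    rw [map_mul]
    exact h1
  haveI : Fact (Nat.Prime 2) := ⟨Nat.prime_two⟩
  have hpx : IsPGroup 2 (zpowers x) := by
    have h0 : x ^ 2 ^ 2 = 1 := by simpa using hx4
    rw [IsPGroup.iff_card]
    have h1 : orderOf x ∣ 2 ^ 2 := orderOf_dvd_of_pow_eq_one h0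
    obtain ⟨k, -, hk⟩ := (Nat.dvd_prime_pow Nat.prime_two).mp h1
    exact ⟨k, by rw [Nat.card_zpowers, hk]⟩
  have hpy : IsPGroup 2 (zpowers y) := by
    have h0 : y ^ 2 ^ 1 = 1 := by simpa using hy2
    rw [IsPGroup.iff_card]
    have h1 : orderOf y ∣ 2 ^ 1 := orderOf_dvd_of_pow_eq_one h0
    obtain ⟨k, -, hk⟩ := (Nat.dvd_prime_pow Nat.prime_two).mp h1
    exact ⟨k, by rw [Nat.card_zpowers, hk]⟩
  have hnorm : zpowers y ≤ Subgroup.normalizer ((zpowers x : Subgroup G) : Set G) := by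
    rw [zpowers_le, Subgroup.mem_normalizer_iff]
    have hyinv : y⁻¹ = y := by
      rw [inv_eq_iff_mul_eq_one, ← pow_two, hy2]
    have hconj : ∀ k : ℤ, y * x ^ k * y⁻¹ = (x⁻¹) ^ k := by
      intro k
      rw [← conj_zpow, hyx]
    intro h
    constructor
    · rintro ⟨k, rfl⟩
      change y * x ^ k * y⁻¹ ∈ zpowers x
      rw [hconj]
      exact zpow_mem (inv_mem (mem_zpowers x)) k
    · rintro ⟨k, hk⟩
      have hk' : x ^ k = y * h * y⁻¹ := hk
      have h1 : h = y * x ^ k * y⁻¹ := by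
        rw [hk', hyinv]
        have hyy : y * y = 1 := by rw [← pow_two, hy2]
        calc h = (y * y) * h * (y * y) := by rw [hyy]; group
          _ = y * (y * h * y) * y := by group
      rw [h1, hconj]
      exact zpow_mem (inv_mem (mem_zpowers x)) k
  have hp := IsPGroup.to_sup_of_normal_right' hpy hpx hnorm
  obtain ⟨P, hP⟩ := hp.exists_le_sylow
  have hxP : x ∈ (P : Subgroup G) := hP ((le_sup_right : zpowers x ≤ zpowers y ⊔ zpowers x) (mem_zpowers x))
  have hyP : y ∈ (P : Subgroup G) := hP ((le_sup_left : zpowers y ≤ zpowers y ⊔ zpowers x) (mem_zpowers y))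
  have hcomm : y * x = x * y := congrArg Subtype.val ((hab P).is_comm.comm ⟨y, hyP⟩ ⟨x, hxP⟩)
  apply hxx
  have h1 : x = x⁻¹ := by
    rw [← hyx, hcomm]
    group
  calc x * x = x⁻¹ * x := by rw [← h1]
    _ = 1 := inv_mul_cancel x

/-- `|PSL₂(F)|` is even for `|F|` odd. -/
theorem str_two_dvd_card (hFo : Odd (Fintype.card F)) : 2 ∣ Nat.card (Matrix.ProjectiveSpecialLinearGroup (Fin 2) F) := by
  have h1 := Cfsg.Agent.Lib.EPPO7.card_psl2 F
  obtain ⟨m, hm⟩ := hFo
  rw [hm] at h1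
  have h3 : Nat.gcd 2 (2 * m + 1 - 1) = 2 := by
    apply Nat.gcd_eq_left
    omega
  rw [h3] at h1
  have h4 : 2 * m + 1 - 1 = 2 * m := by omega
  rw [h4] at h1
  have h5 : (2 * m + 1 + 1) * (2 * m + 1) * (2 * m) = 2 * (2 * (m * (m + 1) * (2 * m + 1))) := by ring
  rw [h5] at h1
  have h6 := Nat.eq_of_mul_eq_mul_left (by norm_num) h1
  rw [h6]
  exact dvd_mul_right _ _

/-- [T2] Every Sylow `2`-subgroup of `E` lies in `N`. `Γ = N ⊔ P` in `E`, `K = N` in `Γ`; `P` abelian (inside a Sylow of `G`), `N` simple of even order (`Matrix.ProjectiveSpecialLinearGroup.rank_two_simple`, `LChS.basic`), `C_Γ(N) = 1`: `Z.core_bot`, `Z.sylow_le`. -/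
theorem sylow_le_N (hab : ∀ S : Sylow 2 G, IsMulCommutative ↥(S : Subgroup G)) (E : Subgroup G) (N : Subgroup ↥E) [N.Normal]
    (hN : Nonempty (↥N ≃* Matrix.ProjectiveSpecialLinearGroup (Fin 2) F)) (hFo : Odd (Fintype.card F)) (hF3 : 3 < Fintype.card F)
    (hNc : Subgroup.centralizer (N : Set ↥E) = ⊥) (P : Sylow 2 ↥E) : (P : Subgroup ↥E) ≤ N := by
  classical
  obtain ⟨e⟩ := hN
  set Γ : Subgroup ↥E := N ⊔ (P : Subgroup ↥E) with hΓ
  have hNΓ : N ≤ Γ := le_sup_left
  have hPΓ : (P : Subgroup ↥E) ≤ Γ := le_sup_right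
  let T : Sylow 2 ↥Γ := P.subtype hPΓ
  have hT : (T : Subgroup ↥Γ) = (P : Subgroup ↥E).subgroupOf Γ := rfl
  let K : Subgroup ↥Γ := N.subgroupOf Γ
  haveI hKn : K.Normal := inferInstance
  -- `K ≃ PSL₂ F`
  let eK : ↥K ≃* ↥N := Subgroup.subgroupOfEquivOfLe hNΓ
  haveI hsimple : IsSimpleGroup (Matrix.ProjectiveSpecialLinearGroup (Fin 2) F) :=
    Matrix.ProjectiveSpecialLinearGroup.rank_two_simple (by rw [Nat.card_eq_fintype_card]; omega)
  haveI hKs : IsSimpleGroup ↥K := (eK.trans e).isSimpleGroup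
  have h2K : 2 ∣ Nat.card ↥K := by
    rw [Nat.card_congr (eK.trans e).toEquiv]
    exact str_two_dvd_card hFo
  have hc : ∀ x : ↥Γ, (∀ k ∈ K, x * k = k * x) → x = 1 := by
    intro x hx
    have h1 : (x : ↥E) ∈ Subgroup.centralizer (N : Set ↥E) := by
      rw [Subgroup.mem_centralizer_iff]
      intro k hk
      have h3 := hx ⟨k, hNΓ hk⟩ (by simpa [K, Subgroup.mem_subgroupOf] using hk)
      have h4 := congrArg Subtype.val h3
      simpa using h4.symm
    rw [hNc, Subgroup.mem_bot] at h1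
    exact Subtype.ext h1
  have hTab : ∀ x ∈ (T : Subgroup ↥Γ), ∀ y ∈ (T : Subgroup ↥Γ), x * y = y * x := by
    intro x hx y hy
    have hP2 : IsPGroup 2 (((P : Subgroup ↥E).map E.subtype : Subgroup G)) := P.isPGroup'.map _
    obtain ⟨S, hS⟩ := hP2.exists_le_sylow
    haveI := hab S
    have hx' : ((x : ↥E) : G) ∈ (S : Subgroup G) := hS ⟨x, hx, rfl⟩
    have hy' : ((y : ↥E) : G) ∈ (S : Subgroup G) := hS ⟨y, hy, rfl⟩
    have h5 : (⟨_, hx'⟩ : (S : Subgroup G)) * ⟨_, hy'⟩ = ⟨_, hy'⟩ * ⟨_, hx'⟩ := mul_comm' _ _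
    apply Subtype.ext
    apply Subtype.ext
    have h6 := congrArg Subtype.val h5
    exact h6
  have hKT : K ⊔ (T : Subgroup ↥Γ) = ⊤ := by
    rw [hT, show K = N.subgroupOf Γ from rfl, ← Subgroup.subgroupOf_sup hNΓ hPΓ]
    exact Subgroup.subgroupOf_self Γ
  have hcore := Z.core_bot K h2K hc
  have hle := Z.sylow_le T hTab K hKT hc hcore
  intro x hx
  have h7 : (⟨x, hPΓ hx⟩ : ↥Γ) ∈ (T : Subgroup ↥Γ) := by
    rw [hT, Subgroup.mem_subgroupOf]
    exact hx
  have h8 := hle h7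
  exact (Subgroup.mem_subgroupOf).1 h8

/-- The Sylow `2`-subgroups of `E` are Klein. -/
theorem sylow_E_klein (hq : Fintype.card F % 8 = 3 ∨ Fintype.card F % 8 = 5) (E : Subgroup G) (N : Subgroup ↥E)
    (hN : Nonempty (↥N ≃* Matrix.ProjectiveSpecialLinearGroup (Fin 2) F)) (P : Sylow 2 ↥E) (hPN : (P : Subgroup ↥E) ≤ N) :
    Nat.card (P : Subgroup ↥E) = 4 ∧ ∀ a ∈ (P : Subgroup ↥E), a * a = 1 := by
  classical
  haveI : Fact (Nat.Prime 2) := ⟨Nat.prime_two⟩
  obtain ⟨e⟩ := hN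
  let S₁ : Sylow 2 ↥N := P.subtype hPN
  have hS₁ : (S₁ : Subgroup ↥N) = (P : Subgroup ↥E).subgroupOf N := Sylow.coe_subtype _ _
  have hrange : (S₁ : Subgroup ↥N) ≤ (e.symm.toMonoidHom).range := by
    intro x _
    exact ⟨e x, by simp⟩
  let Q : Sylow 2 (Matrix.ProjectiveSpecialLinearGroup (Fin 2) F) :=
    S₁.comapOfInjective e.symm.toMonoidHom e.symm.injective hrange
  have hQ : (Q : Subgroup _) = (S₁ : Subgroup ↥N).comap e.symm.toMonoidHom := Sylow.coe_comapOfInjective _ _ _ _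
  have hK : IsKleinFour (Q : Subgroup (Matrix.ProjectiveSpecialLinearGroup (Fin 2) F)) :=
    Cfsg.Agent.S0276.result rfl hq Q
  have hc4 : Nat.card (Q : Subgroup (Matrix.ProjectiveSpecialLinearGroup (Fin 2) F)) = 4 := hK.card_four
  have hQS : Nat.card (Q : Subgroup (Matrix.ProjectiveSpecialLinearGroup (Fin 2) F)) = Nat.card (S₁ : Subgroup ↥N) := by
    have e1 : (Q : Subgroup (Matrix.ProjectiveSpecialLinearGroup (Fin 2) F)) = (S₁ : Subgroup ↥N).map e.toMonoidHom := by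
      rw [hQ]
      ext x
      simp only [Subgroup.mem_comap, Subgroup.mem_map]
      constructor
      · intro hx
        exact ⟨e.symm x, hx, by simp⟩
      · rintro ⟨y, hy, rfl⟩
        simpa using hy
    rw [e1]
    exact Subgroup.card_map_of_injective e.injective
  have hSP : Nat.card (S₁ : Subgroup ↥N) = Nat.card (P : Subgroup ↥E) := by
    rw [hS₁]
    exact Nat.card_congr (Subgroup.subgroupOfEquivOfLe hPN).toEquiv
  refine ⟨by rw [← hSP, ← hQS, hc4], fun a ha => ?_⟩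
  have haN : a ∈ N := hPN ha
  have hmem : e ⟨a, haN⟩ ∈ (Q : Subgroup (Matrix.ProjectiveSpecialLinearGroup (Fin 2) F)) := by
    rw [hQ, Subgroup.mem_comap, hS₁, Subgroup.mem_subgroupOf]
    simpa using ha
  have h2 : (⟨e ⟨a, haN⟩, hmem⟩ : (Q : Subgroup (Matrix.ProjectiveSpecialLinearGroup (Fin 2) F))) ^ 2 = 1 := by
    have := Monoid.pow_exponent_eq_one (⟨e ⟨a, haN⟩, hmem⟩ : (Q : Subgroup (Matrix.ProjectiveSpecialLinearGroup (Fin 2) F)))
    rwa [hK.exponent_two] at this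
  have h3 : e ⟨a, haN⟩ ^ 2 = 1 := by
    simpa using congrArg Subtype.val h2
  have h4 : (⟨a, haN⟩ : ↥N) ^ 2 = 1 := by
    apply e.injective
    rw [map_pow, h3, map_one]
  have h5 : a ^ 2 = 1 := by
    simpa using congrArg Subtype.val h4
  rwa [pow_two] at h5

/-- [T3] Assembly: a Sylow `2`-subgroup `S` of `G` with `|S| = 8`, exponent `2`. Let `P : Sylow 2 E`; `P ≤ N` by [T2], so `P` (transported to `PSL₂ F`) is a Sylow of `N` hence Klein (`LChS.basic`, `q_mod8`): `|P| = 4`, exponent `2`. `t ∉ E`, `|C(t)| = 2 |E|`. `⟨t⟩ × P` is a `2`-subgroup of order `8` and exponent `2`, inside a Sylow `S` of `G`;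
`S` abelian contains `t`, so `S ≤ C(t)`, and `|S|` divides the `2`-part of `2 |E|`, which is `8`. -/
theorem exists_sylow (hab : ∀ S : Sylow 2 G, IsMulCommutative ↥(S : Subgroup G)) (t : G) (ht : orderOf t = 2) (E : Subgroup G)
    (hE : Cfsg.IsInternalDirectProduct (Subgroup.zpowers t) E (Subgroup.centralizer ({t} : Set G))) (N : Subgroup ↥E) [N.Normal]
    (hN : Nonempty (↥N ≃* Matrix.ProjectiveSpecialLinearGroup (Fin 2) F)) (hFo : Odd (Fintype.card F)) (hF3 : 3 < Fintype.card F)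
    (hNc : Subgroup.centralizer (N : Set ↥E) = ⊥) :
    ∃ S : Sylow 2 G, Nat.card S = 8 ∧ ∀ s ∈ (S : Subgroup G), s * s = 1 := by
  classical
  haveI : Fact (Nat.Prime 2) := ⟨Nat.prime_two⟩
  obtain ⟨hs1, hs2, hcomm, hmeet, hsup⟩ := hE
  have hq := q_mod8 hab E N hN hFo
  obtain ⟨P⟩ : Nonempty (Sylow 2 ↥E) := inferInstance
  have hPN : (P : Subgroup ↥E) ≤ N := sylow_le_N hab E N hN hFo hF3 hNc P
  obtain ⟨hP4, hP2⟩ := sylow_E_klein hq E N hN P hPN
  set A : Subgroup G := (P : Subgroup ↥E).map E.subtype with hA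
  have hAE : A ≤ E := by
    rintro _ ⟨x, -, rfl⟩
    exact x.2
  have hA4 : Nat.card A = 4 := by
    rw [hA, Subgroup.card_map_of_injective E.subtype_injective, hP4]
  have hA2 : ∀ a ∈ A, a * a = 1 := by
    rintro _ ⟨x, hx, rfl⟩
    have := congrArg Subtype.val (hP2 x hx)
    simpa using this
  have htt : t * t = 1 := by
    have := pow_orderOf_eq_one t
    rwa [ht, pow_two] at this
  have huu : ∀ u ∈ zpowers t, u * u = 1 := by
    intro u hu
    obtain ⟨k, rfl⟩ := Subgroup.mem_zpowers_iff.1 hu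
    rw [← zpow_add, ← two_mul, zpow_mul, zpow_two, htt, one_zpow]
  -- every element of `⟨t⟩ ⊔ Q`, `Q ≤ E`, is a product
  have hprod : ∀ Q : Subgroup G, Q ≤ E → ∀ x ∈ zpowers t ⊔ Q, ∃ u ∈ zpowers t, ∃ e ∈ Q, x = u * e := by
    intro Q hQ x hx
    rw [Subgroup.sup_eq_closure] at hx
    induction hx using Subgroup.closure_induction with
    | mem x hx =>
      rcases hx with hx | hx
      · exact ⟨x, hx, 1, one_mem _, by simp⟩
      · exact ⟨1, one_mem _, x, hx, by simp⟩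
    | one => exact ⟨1, one_mem _, 1, one_mem _, by simp⟩
    | mul x y _ _ hx hy =>
      obtain ⟨u, hu, e, he, rfl⟩ := hx
      obtain ⟨u', hu', e', he', rfl⟩ := hy
      refine ⟨u * u', mul_mem hu hu', e * e', mul_mem he he', ?_⟩
      have h := hcomm u' hu' e (hQ he)
      calc u * e * (u' * e') = u * (e * u') * e' := by group
        _ = u * (u' * e) * e' := by rw [h]
        _ = u * u' * (e * e') := by group
    | inv x _ hx =>
      obtain ⟨u, hu, e, he, rfl⟩ := hx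
      refine ⟨u⁻¹, inv_mem hu, e⁻¹, inv_mem he, ?_⟩
      have h := hcomm u hu e (hQ he)
      rw [mul_inv_rev]
      have h' : u⁻¹ * e⁻¹ = (e * u)⁻¹ := by group
      rw [h', ← h]
      group
  -- a `2`-group
  have hB2 : ∀ x ∈ zpowers t ⊔ A, x * x = 1 := by
    intro x hx
    obtain ⟨u, hu, e, he, rfl⟩ := hprod A hAE x hx
    have h := hcomm u hu e (hAE he)
    calc u * e * (u * e) = u * (e * u) * e := by group
      _ = u * (u * e) * e := by rw [h]
      _ = (u * u) * (e * e) := by group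
      _ = 1 := by rw [huu u hu, hA2 e he, one_mul]
  have hBp : IsPGroup 2 (zpowers t ⊔ A : Subgroup G) := by
    intro x
    refine ⟨1, ?_⟩
    rw [pow_one, pow_two]
    exact Subtype.ext (hB2 x x.2)
  obtain ⟨S, hS⟩ := hBp.exists_le_sylow
  have htS : t ∈ (S : Subgroup G) := hS (Subgroup.mem_sup_left (Subgroup.mem_zpowers t))
  have hAS : A ≤ (S : Subgroup G) := le_trans le_sup_right hS
  have hzS : zpowers t ≤ (S : Subgroup G) := le_trans le_sup_left hS
  -- `S ≤ C(t)`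
  have hSC : (S : Subgroup G) ≤ zpowers t ⊔ E := by
    rw [hsup]
    intro x hx
    rw [Subgroup.mem_centralizer_singleton_iff]
    have := (hab S).is_comm.comm ⟨x, hx⟩ ⟨t, htS⟩
    exact congrArg Subtype.val this
  -- `S ∩ E = A`
  have hSE : ∀ e ∈ (S : Subgroup G), e ∈ E → e ∈ A := by
    intro e heS heE
    have hQp : IsPGroup 2 ((S : Subgroup G).comap E.subtype) :=
      S.isPGroup'.comap_of_injective E.subtype E.subtype_injective
    have hle : (P : Subgroup ↥E) ≤ (S : Subgroup G).comap E.subtype := by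
      intro x hx
      exact hAS ⟨x, hx, rfl⟩
    have heq := P.is_maximal' hQp hle
    have hmem : (⟨e, heE⟩ : ↥E) ∈ (S : Subgroup G).comap E.subtype := heS
    rw [heq] at hmem
    exact ⟨⟨e, heE⟩, hmem, rfl⟩
  have hdec : ∀ x ∈ (S : Subgroup G), ∃ u ∈ zpowers t, ∃ e ∈ A, x = u * e := by
    intro x hx
    obtain ⟨u, hu, e, he, rfl⟩ := hprod E le_rfl x (hSC hx)
    refine ⟨u, hu, e, hSE e ?_ he, rfl⟩
    have : e = u⁻¹ * (u * e) := by group
    rw [this]
    exact mul_mem (inv_mem (hzS hu)) hx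
  refine ⟨S, ?_, fun s hs => ?_⟩
  · -- the count
    let f : ↥(zpowers t) × ↥A → ↥(S : Subgroup G) := fun p => ⟨(p.1 : G) * (p.2 : G), mul_mem (hzS p.1.2) (hAS p.2.2)⟩
    have hf : Function.Bijective f := by
      constructor
      · rintro ⟨⟨u, hu⟩, ⟨a, ha⟩⟩ ⟨⟨u', hu'⟩, ⟨a', ha'⟩⟩ h
        have h' : u * a = u' * a' := congrArg Subtype.val h
        have h1 : u'⁻¹ * u = a' * a⁻¹ := by
          calc u'⁻¹ * u = u'⁻¹ * (u * a) * a⁻¹ := by group
            _ = u'⁻¹ * (u' * a') * a⁻¹ := by rw [h']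
            _ = a' * a⁻¹ := by group
        have h2 : u'⁻¹ * u ∈ zpowers t ⊓ E := by
          refine Subgroup.mem_inf.2 ⟨(zpowers t).mul_mem ((zpowers t).inv_mem hu') hu, ?_⟩
          rw [h1]
          exact E.mul_mem (hAE ha') (E.inv_mem (hAE ha))
        rw [hmeet, Subgroup.mem_bot] at h2
        have h3 : u = u' := by
          have := mul_left_cancel (a := u'⁻¹) (b := u) (c := u') (by rw [h2]; group)
          exact this
        have h4 : a = a' := by
          rw [h3] at h'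
          exact mul_left_cancel h'
        subst h3
        subst h4
        rfl
      · rintro ⟨x, hx⟩
        obtain ⟨u, hu, e, he, rfl⟩ := hdec x hx
        exact ⟨(⟨u, hu⟩, ⟨e, he⟩), rfl⟩
    have hc := Nat.card_congr (Equiv.ofBijective f hf)
    rw [← hc, Nat.card_prod, Nat.card_zpowers, ht, hA4]
  · obtain ⟨u, hu, e, he, rfl⟩ := hdec s hs
    exact hB2 _ (mul_mem (Subgroup.mem_sup_left hu) (Subgroup.mem_sup_right he))

end Cfsg.Agent.Lib.JR.Str
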